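import Groth.Prelude.Def_W4c2movlemaddchowShuffle
import Mathlib.Data.Fin.Tuple.Sort
import Mathlib.GroupTheory.Perm.Sign
import Mathlib.Data.Set.Function
import Mathlib.Algebra.MonoidAlgebra.Defs

/-!
# Factoring shuffles through a smaller block
-/

open Equiv

namespace GrothLib.Shuffle20

variable {a n : ℕ} (e : Fin a → Fin n) (ext : Perm (Fin a) → Perm (Fin n))

/-- `ext` extends permutations of the block `e` by the identity. -/
structure IsExt : Prop where
  inj : Function.Injective e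
  on_block : ∀ σ i, ext σ (e i) = e (σ i)
  off_block : ∀ σ x, (∀ i, e i ≠ x) → ext σ x = x

variable {e ext}

namespace IsExt

theorem mul (h : IsExt e ext) (σ τ : Perm (Fin a)) : ext (σ * τ) = ext σ * ext τ := by
  ext x
  by_cases hx : ∃ i, e i = x
  · obtain ⟨i, rfl⟩ := hx
    simp [h.on_block]
  · simp only [not_exists] at hx
    simp [h.off_block _ x hx]

theorem one (h : IsExt e ext) : ext 1 = 1 := by
  ext x
  by_cases hx : ∃ i, e i = x
  · obtain ⟨i, rfl⟩ := hx
    simp [h.on_block]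
  · simp only [not_exists] at hx
    simp [h.off_block _ x hx]

theorem comp_block (h : IsExt e ext) (τ : Perm (Fin n)) (σ : Perm (Fin a)) :
    (⇑(τ * ext σ) ∘ e) = (⇑τ ∘ e) ∘ σ := by
  funext i; simp [h.on_block]

theorem bijOn (h : IsExt e ext) (A : Set (Perm (Fin n))) (B : Set (Perm (Fin a)))
    (T : Set (Perm (Fin n))) (hA : ∀ τ : Perm (Fin n), τ ∈ A → Monotone (⇑τ ∘ e))
    (hT : ∀ (τ : Perm (Fin n)) (σ : Perm (Fin a)), Monotone (⇑τ ∘ e) → (τ * ext σ ∈ T ↔ τ ∈ A ∧ σ ∈ B)) :
    Set.BijOn (fun p : Perm (Fin n) × Perm (Fin a) => p.1 * ext p.2) (A ×ˢ B) T := by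
  refine ⟨?_, ?_, ?_⟩
  · rintro ⟨τ, σ⟩ ⟨hτ, hσ⟩
    exact (hT τ σ (hA τ hτ)).2 ⟨hτ, hσ⟩
  · rintro ⟨τ, σ⟩ ⟨hτ, -⟩ ⟨τ', σ'⟩ ⟨hτ', -⟩ heq
    simp only at heq
    set f : Fin a → Fin n := ⇑(τ * ext σ) ∘ e with hf
    have hfinj : Function.Injective f := (Equiv.injective _).comp h.inj
    have h1 : f ∘ (σ⁻¹ : Perm (Fin a)) = ⇑τ ∘ e := by
      funext i; simp [hf, h.on_block]
    have h2 : f ∘ (σ'⁻¹ : Perm (Fin a)) = ⇑τ' ∘ e := by
      funext i; simp [hf, heq, h.on_block]
    have h3 := Tuple.unique_monotone (h1 ▸ hA τ hτ) (h2 ▸ hA τ' hτ')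
    have hσ : σ = σ' := by
      have h4 : σ⁻¹ = σ'⁻¹ := Equiv.ext fun i => hfinj (congrFun h3 i)
      exact inv_injective h4
    subst hσ
    have : τ = τ' := mul_right_cancel heq
    subst this
    rfl
  · intro ν hν
    let f : Fin a → Fin n := ⇑ν ∘ e
    let s : Perm (Fin a) := Tuple.sort f
    have hmono : Monotone (⇑(ν * ext s) ∘ e) := by
      rw [h.comp_block]
      exact Tuple.monotone_sort f
    have hprod : ν * ext s * ext s⁻¹ = ν := by
      rw [mul_assoc, ← h.mul, mul_inv_cancel, h.one, mul_one]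
    refine ⟨(ν * ext s, s⁻¹), ?_, hprod⟩
    exact (hT _ _ hmono).1 (hprod.symm ▸ hν)

end IsExt

open W4c2movlemaddchow

variable (r s t : ℕ)

theorem isExt_extRight (a t : ℕ) : IsExt (Fin.castAdd t (n := a)) (extRight a t) where
  inj := Fin.castAdd_injective _ _
  on_block σ i := by simp [extRight, Equiv.permCongr_apply]
  off_block σ x hx := by
    induction x using Fin.addCases with
    | left i => exact absurd rfl (hx i)
    | right i => simp [extRight, Equiv.permCongr_apply]

/-- The last block of `Fin (r + s + t)`. -/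
def blockL : Fin (s + t) → Fin (r + s + t) := fun i =>
  (finCongr (Nat.add_assoc r s t)).symm (Fin.natAdd r i)

theorem isExt_extLeft : IsExt (blockL r s t) (extLeft r s t) where
  inj := fun i j hij => by simpa [blockL] using hij
  on_block σ i := by simp [extLeft, blockL, Equiv.permCongr_apply]
  off_block σ x hx := by
    obtain ⟨y, rfl⟩ := (finCongr (Nat.add_assoc r s t)).symm.surjective x
    induction y using Fin.addCases with
    | left i => simp [extLeft, Equiv.permCongr_apply]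
    | right i => exact absurd rfl (hx i)

theorem monotone_iff_of_monotone {p : ℕ} {g : Fin a → Fin n} (hg : Monotone g)
    (hgi : Function.Injective g) (σ : Fin p → Fin a) : Monotone (g ∘ σ) ↔ Monotone σ := by
  have hs : StrictMono g := hg.strictMono_of_injective hgi
  exact ⟨fun h i j hij => hs.le_iff_le.1 (h hij), fun h => hg.comp h⟩

theorem right_shuffle_iff (τ : Perm (Fin (r + s + t))) (σ : Perm (Fin (r + s)))
    (hτ : Monotone (⇑τ ∘ Fin.castAdd t)) :
    IsShuffle₃ r s t (τ * extRight (r + s) t σ) ↔ IsShuffle₂ (r + s) t τ ∧ IsShuffle₂ r s σ := by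
  have hi : Function.Injective (⇑τ ∘ Fin.castAdd t) :=
    τ.injective.comp (Fin.castAdd_injective _ _)
  have hb := (isExt_extRight (r + s) t).on_block σ
  have ho : ∀ l : Fin t, extRight (r + s) t σ (Fin.natAdd (r + s) l) = Fin.natAdd (r + s) l :=
    fun l => by simp [extRight, Equiv.permCongr_apply]
  have e1 := monotone_iff_of_monotone hτ hi (fun i : Fin r => σ (Fin.castAdd s i))
  have e2 := monotone_iff_of_monotone hτ hi (fun j : Fin s => σ (Fin.natAdd r j))
  simp only [Function.comp_def] at e1 e2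
  simp only [IsShuffle₃, IsShuffle₂, Equiv.Perm.mul_apply, hb, ho, e1, e2]
  simp only [Function.comp_def] at hτ
  tauto

theorem blockL_castAdd (j : Fin s) :
    blockL r s t (Fin.castAdd t j) = Fin.castAdd t (Fin.natAdd r j) := by
  ext; simp [blockL]

theorem blockL_natAdd (l : Fin t) : blockL r s t (Fin.natAdd s l) = Fin.natAdd (r + s) l := by
  ext; simp [blockL, Nat.add_assoc]

theorem left_shuffle₂_iff (τ : Perm (Fin (r + s + t))) :
    IsShuffle₂ r (s + t) ((finCongr (Nat.add_assoc r s t)).permCongr τ) ↔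
      Monotone (fun i : Fin r => τ (Fin.castAdd t (Fin.castAdd s i))) ∧
        Monotone (⇑τ ∘ blockL r s t) := by
  have hc : ∀ i : Fin r, (finCongr (Nat.add_assoc r s t)).symm (Fin.castAdd (s + t) i) =
      Fin.castAdd t (Fin.castAdd s i) := fun i => Fin.ext rfl
  simp only [IsShuffle₂, Equiv.permCongr_apply, hc]
  constructor
  · rintro ⟨h1, h2⟩
    exact ⟨fun i j hij => h1 hij, fun i j hij => h2 hij⟩
  · rintro ⟨h1, h2⟩
    exact ⟨fun i j hij => h1 hij, fun i j hij => h2 hij⟩

theorem left_shuffle_iff (τ : Perm (Fin (r + s + t))) (σ : Perm (Fin (s + t)))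
    (hτ : Monotone (⇑τ ∘ blockL r s t)) :
    IsShuffle₃ r s t (τ * extLeft r s t σ) ↔
      IsShuffle₂ r (s + t) ((finCongr (Nat.add_assoc r s t)).permCongr τ) ∧ IsShuffle₂ s t σ := by
  have hi : Function.Injective (⇑τ ∘ blockL r s t) :=
    τ.injective.comp (isExt_extLeft r s t).inj
  have hb := (isExt_extLeft r s t).on_block σ
  have h1 : ∀ i : Fin r, extLeft r s t σ (Fin.castAdd t (Fin.castAdd s i)) =
      Fin.castAdd t (Fin.castAdd s i) := fun i => by
    refine (isExt_extLeft r s t).off_block σ _ fun j hj => ?_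
    have := congrArg Fin.val hj
    simp [blockL] at this
    omega
  have e1 := monotone_iff_of_monotone hτ hi (fun i : Fin s => σ (Fin.castAdd t i))
  have e2 := monotone_iff_of_monotone hτ hi (fun j : Fin t => σ (Fin.natAdd s j))
  simp only [Function.comp_def] at e1 e2
  rw [left_shuffle₂_iff]
  simp only [IsShuffle₃, IsShuffle₂, Equiv.Perm.mul_apply, ← blockL_castAdd r s t,
    ← blockL_natAdd r s t, hb, h1, e1, e2]
  tauto

theorem sign_extRight (a t : ℕ) (σ : Perm (Fin a)) :
    Equiv.Perm.sign (extRight a t σ) = Equiv.Perm.sign σ := by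
  simp [extRight, Equiv.Perm.sign_sumCongr]

theorem sign_extLeft (σ : Perm (Fin (s + t))) :
    Equiv.Perm.sign (extLeft r s t σ) = Equiv.Perm.sign σ := by
  simp [extLeft, Equiv.Perm.sign_sumCongr]

theorem bijOn_right :
    Set.BijOn (fun p : Perm (Fin (r + s + t)) × Perm (Fin (r + s)) =>
        p.1 * extRight (r + s) t p.2)
      ({τ | IsShuffle₂ (r + s) t τ} ×ˢ {σ | IsShuffle₂ r s σ})
      {ν | IsShuffle₃ r s t ν} :=
  (isExt_extRight (r + s) t).bijOn _ _ _ (fun _ h => h.1) (right_shuffle_iff r s t)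

theorem bijOn_left :
    Set.BijOn (fun p : Perm (Fin (r + s + t)) × Perm (Fin (s + t)) => p.1 * extLeft r s t p.2)
      ({τ | IsShuffle₂ r (s + t) ((finCongr (Nat.add_assoc r s t)).permCongr τ)} ×ˢ
        {σ | IsShuffle₂ s t σ})
      {ν | IsShuffle₃ r s t ν} :=
  (isExt_extLeft r s t).bijOn _ _ _ (fun _ h => ((left_shuffle₂_iff r s t _).1 h).2)
    (left_shuffle_iff r s t)

/-- Reindexing a signed sum over shuffles. -/
theorem signed_sum_eq {a n : ℕ} (ext : Perm (Fin a) → Perm (Fin n))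
    (hsign : ∀ σ, Equiv.Perm.sign (ext σ) = Equiv.Perm.sign σ)
    (A : Finset (Perm (Fin n))) (B : Finset (Perm (Fin a))) (T : Finset (Perm (Fin n)))
    (h : Set.BijOn (fun p : Perm (Fin n) × Perm (Fin a) => p.1 * ext p.2)
      (((A : Set (Perm (Fin n))) ×ˢ (B : Set (Perm (Fin a))))) (T : Set (Perm (Fin n)))) :
    (∑ ν ∈ T, MonoidAlgebra.single ν (((Equiv.Perm.sign ν : ℤˣ) : ℤ)) :
        MonoidAlgebra ℤ (Perm (Fin n))) =
      ∑ τ ∈ A, ∑ σ ∈ B, MonoidAlgebra.single (τ * ext σ)
          (((Equiv.Perm.sign τ : ℤˣ) : ℤ) * ((Equiv.Perm.sign σ : ℤˣ) : ℤ)) := by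
  rw [← Finset.sum_product']
  refine (Finset.sum_nbij (fun p => p.1 * ext p.2) ?_ ?_ ?_ ?_).symm
  · intro p hp
    exact h.mapsTo (by simpa using hp)
  · simpa using h.injOn
  · simpa using h.surjOn
  · intro p _
    simp [Equiv.Perm.sign_mul, hsign]

end GrothLib.Shuffle20
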